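import Cfsg.Agent.FixOdd.Gates_mg
import Cfsg.Agent.FixOdd.Radical_m3
import Cfsg.Agent.H388.EvenFixSylow
import Cfsg.Agent.S0320
import Cfsg.Agent.BpTab.Rows
import Cfsg.Agent.Schreier.Cases
import Cfsg.Agent.H996.AllSplit_m3
import Cfsg.Agent.Prune
set_option linter.all false
prune_inst 0x7f00000000000000000000000000000000000000000000000000000000000000000000000000000000000000000000000000000000000000000000000000000000000000000000000000000000000000003fffffffffffffffffffffffffffbeffbdffffffff
open scoped Cfsg.Agent.FastGrp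

-- merged: Cfsg.Agent.BpTwo.Data
section

/-!
# Fixed points of an automorphism of prime order of a group with a split (B,N)-pair of characteristic two

* `exists_gates` : `K` with a split (B,N)-pair of characteristic `p`, `τ` an automorphism of prime order `r ≠ p`: the
  Sylow `p`-subgroups of `C_K(τ)` form a gate system with `Inter`, and two of them intersect trivially;
* `good_of_split_two` : `p = 2`: `C_K(τ)` modulo the subgroup generated by its `2`-elements has odd order, so
  `Good r C_K(τ)` (Feit-Thompson and the Schreier property of the components of `C_K(τ)`).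
-/

set_option autoImplicit false

namespace Cfsg.Agent.BpTwo

open Subgroup Cfsg Cfsg.Agent.BpTab Cfsg.Agent.FixBN.Gates Cfsg.Agent.BpGate
open Cfsg.Agent.Tits Cfsg.Agent.Tits.Core Cfsg.Agent.Tits.OfBN Cfsg.Agent.Schreier.BNSch
open Cfsg.Agent.Schreier.Basic

/-- The gate system on the Sylow `p`-subgroups of the fixed points. -/
theorem exists_gates {K : Type*} [Group K] [Finite K] {p r : ℕ} [hp : Fact p.Prime] [hr : Fact r.Prime] (hrp : r ≠ p)
    {P : Cfsg.BNPair K} {U : Subgroup K} (h : FixBN.Split P p U) (τ : MulAut K) (hτ : τ ^ r = 1) :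
    ∃ (Pa : Set (Set (Sylow p ↥(fixedSubgroup τ))))
      (d : Sylow p ↥(fixedSubgroup τ) → Sylow p ↥(fixedSubgroup τ) → ℕ),
      GSys Pa d ∧ Inter Pa ∧
        ∃ a b : Sylow p ↥(fixedSubgroup τ), (a : Subgroup ↥(fixedSubgroup τ)) ⊓ b = ⊥ := by
  have hN : ((P.B ⊓ P.N).subgroupOf P.N).Normal := normal_subgroupOf P
  obtain ⟨M, cs, hcs⟩ := S0320.result P
  obtain ⟨t, ht, hθ⟩ := FixOdd.exists_tw h (Equiv.refl P.S) cs hcs τ
  have hI : Finite P.S := FixBN.OfBN.finite_I (Equiv.refl P.S)
  have hW : Finite (WP P) := inferInstance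
  have hC : OppRes.Cox cs := inferInstance
  have S := FixBN.OfBN.sys (Equiv.refl P.S) cs hcs h
  have hth := thick P (Equiv.refl P.S) cs hcs
  have ho : t.Ord r := ⟨by rw [ht]; exact hτ, hθ r hτ⟩
  have hU : t.HU S := fun V hV hVp => FixOdd.Tw.exists_UR_smith S hth ho hV hVp
  have e : t.cent = fixedSubgroup τ := by
    ext g
    rw [t.mem_cent, ht]
    exact Iff.rfl
  rw [← e]
  exact ⟨t.Pas S, t.dd S, FixOdd.Tw.gsys S hth hU ho hrp, FixOdd.Tw.inter S hth,
    FixOdd.Tw.opp S hth hU ho hrp⟩

universe u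

/-- Perfect subgroups lie in the subgroup generated by the `2`-elements (Feit-Thompson). -/
theorem le_Hp_two {H : Type u} [Group H] [Finite H]
    (FT : ∀ {X : Type u} [Group X] [Finite X], Odd (Nat.card X) → Group.IsSolvable X)
    {K : Subgroup H} (hK : ⁅K, K⁆ = K) : K ≤ Hp 2 H := by
  have hn : (Hp 2 H).Normal := Hp_normal
  have h2 : Fact (Nat.Prime 2) := ⟨Nat.prime_two⟩
  have hodd : Odd (Nat.card (H ⧸ Hp 2 H)) := by
    rw [← Nat.not_even_iff_odd, even_iff_two_dvd]
    intro h
    obtain ⟨a⟩ : Nonempty (Sylow 2 H) := inferInstance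
    refine a.not_dvd_index' ?_ ?_
    · exact Subgroup.index_ne_zero_of_finite
    · have h3 : (Hp 2 H).index ∣ (a : Subgroup H).index := Subgroup.index_dvd_of_le (le_Hp a)
      exact h.trans h3
  have hs := FT hodd
  have h3 : K.map (QuotientGroup.mk' (Hp 2 H)) = ⊥ := by
    refine eq_bot_of_perfect_of_solvable ?_ inferInstance
    rw [← Subgroup.map_commutator, hK]
  have h4 := (Subgroup.map_eq_bot_iff _).1 h3
  rwa [QuotientGroup.ker_mk'] at h4

/-- `Good r` for the fixed points of an automorphism of odd prime order `r`, characteristic two. -/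
theorem good_of_split_two {K : Type u} [Group K] [Finite K] {r : ℕ} [hr : Fact r.Prime] (hr2 : r ≠ 2)
    (FT : ∀ {X : Type u} [Group X] [Finite X], Odd (Nat.card X) → Group.IsSolvable X)
    {P : Cfsg.BNPair K} {U : Subgroup K} (h : FixBN.Split P 2 U) (τ : MulAut K) (hτ : τ ^ r = 1)
    (hS : ∀ J : Subgroup ↥(fixedSubgroup τ), IsComponent J → Sch (↥J ⧸ Subgroup.center ↥J)) :
    Good r ↥(fixedSubgroup τ) := by
  have h2 : Fact (Nat.Prime 2) := ⟨Nat.prime_two⟩
  obtain ⟨Pa, d, h1, h3, h4⟩ := exists_gates hr2 h τ hτ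
  exact good_of_le h1 h3 h4 hS fun J hJ =>
    le_Hp_two FT (ClassificationK.PCompTransport.isPComponent_perfect r hJ)

end Cfsg.Agent.BpTwo

end

-- merged: Cfsg.Agent.BpTwo.Two
section

/-!
# The rows of S1332 in characteristic two

`bpS_of_lie_two` : `BpS r K` for every simple group `K` of Lie type in characteristic two and every odd prime `r` (all
automorphisms of order `r`); the rows `sz` and `twF4` of the table.
-/

set_option autoImplicit false

namespace Cfsg.Agent.BpTwo

open Subgroup Cfsg Cfsg.Agent.BpTab Cfsg.Agent.Schreier.Basic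

universe u

/-- the Schreier property of the components from the classification -/
theorem sch_component (hS : Schreier.Cases.SchFor.{u} @IsKnownSimple')
    (hkn : ∀ (X : Type u) [Group X] [Finite X] [IsSimpleGroup X], IsKnownSimple' X)
    {H : Type u} [Group H] [Finite H] (J : Subgroup H) (hJ : IsComponent J) : Sch (↥J ⧸ Subgroup.center ↥J) := by
  have hq : IsQuasisimple ↥J := hJ.2
  have := hq.2
  exact hS _ (Schreier.KBalance.not_isMulCommutative_quotient hq) (hkn _)

/-- **The rows of characteristic two**: `BpS r K` for `K` with a split (B,N)-pair of characteristic two, `r` odd. -/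
theorem bpS_of_hasSplit_two {K : Type u} [Group K] [Finite K] {r : ℕ} [hr : Fact r.Prime] (hr2 : r ≠ 2)
    (FT : ∀ {X : Type u} [Group X] [Finite X], Odd (Nat.card X) → Group.IsSolvable X)
    (hS : Schreier.Cases.SchFor.{u} @IsKnownSimple')
    (hkn : ∀ (X : Type u) [Group X] [Finite X] [IsSimpleGroup X], IsKnownSimple' X)
    (h : FixBN.HasSplit 2 K) : BpS r K := by
  obtain ⟨P, U, -, h⟩ := h
  intro x hx
  refine good_of_split_two hr2 FT h x (by rw [← hx]; exact pow_orderOf_eq_one x) fun J hJ => ?_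
  exact sch_component hS hkn J hJ

/-- The hypotheses on the other theorems: Feit-Thompson, the Schreier property, the classification. -/
structure Inp : Prop where
  ft : ∀ (X : Type u) [Group X] [Finite X], Odd (Nat.card X) → Group.IsSolvable X
  sch : Schreier.Cases.SchFor.{u} @IsKnownSimple'
  kn : ∀ (X : Type u) [Group X] [Finite X] [IsSimpleGroup X], IsKnownSimple' X

/-- **All simple groups of Lie type in characteristic two.** -/
theorem bpS_of_lie_two (hI : Inp.{u}) {K : Type u} [Group K] [Finite K] [IsSimpleGroup K] {r : ℕ} [hr : Fact r.Prime]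
    (hr2 : r ≠ 2) (h : IsLieTypeChar 2 K) : BpS r K :=
  bpS_of_hasSplit_two hr2 (fun {X} _ _ h => hI.ft X h) hI.sch hI.kn (Omega.ML.LieRow.hasSplit_of_lie h)

/-- **The row of the Suzuki groups.** -/
theorem row_sz (hI : Inp.{u}) {r : ℕ} [hr : Fact r.Prime] (hr2 : r ≠ 2) : Row.{u} r fun X _ => Lie.IsoSuzuki X :=
  fun _ _ _ h => bpS_of_hasSplit_two hr2 (fun {X} _ _ h => hI.ft X h) hI.sch hI.kn
    (Omega.ML.LieRow.SzSplit.hasSplit_of_isoSuzuki h)

/-- `²F₄(q)` has a split (B,N)-pair. -/
theorem hasSplit_twF4 {G : Type*} [Group G] (h : Lie.Iso2F4 G) : FixBN.HasSplit 2 G := by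
  obtain ⟨K, i1, i2, m, hm, hK, ⟨e⟩⟩ := h
  obtain ⟨Q, UE, s, t, hp, -⟩ := ParSys.Fam.TwoFFour.exists_all hm hK
  refine FixBN.Transport.hasSplit_congr e.symm ⟨Q, UE, ⟨s, ?_⟩, hp.split⟩
  rw [hp.S]
  exact Set.mem_insert _ _

/-- **The row of the groups `²F₄(q)`.** -/
theorem row_twF4 (hI : Inp.{u}) {r : ℕ} [hr : Fact r.Prime] (hr2 : r ≠ 2) : Row.{u} r fun X _ => Lie.Iso2F4 X :=
  fun _ _ _ h => bpS_of_hasSplit_two hr2 (fun {X} _ _ h => hI.ft X h) hI.sch hI.kn (hasSplit_twF4 h)

end Cfsg.Agent.BpTwo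

end
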